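import Mathlib.AlgebraicGeometry.Gluing
import Mathlib.AlgebraicGeometry.Noetherian
import Mathlib.AlgebraicGeometry.IdealSheaf.Subscheme
import Mathlib.RingTheory.Polynomial.Basic
import Mathlib.RingTheory.PowerSeries.Basic
import Mathlib.RingTheory.DiscreteValuationRing.Basic
import Mathlib.RingTheory.Localization.Algebra

/-!
# Countably many copies of `Spec A[t]` glued along `D(ϖ)`

`A` a ring, `ϖ : A`, `K = A[1/ϖ]` (class `Chart`).  `Y A K` is the colimit of the wide span `Spec K[t] ⟶ Spec A[t]`
(index `ℕ`), `inc i` the open immersion of the `i`-th copy, `incD` that of `Spec K[t]`; `toS : Y ⟶ Spec A[t]` the common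
retraction.
-/

set_option autoImplicit false

universe u

open CategoryTheory CategoryTheory.Limits AlgebraicGeometry TopologicalSpace Opposite Polynomial

noncomputable section

namespace Groth.Agent.Refuted.K471.Glue

variable (A K : Type u) [CommRing A] [CommRing K] [Algebra A K]

/-- The chart `Spec A[t]`. -/
abbrev S : Scheme.{u} := Spec (CommRingCat.of A[X])

/-- The common open part `Spec K[t]`. -/
abbrev D : Scheme.{u} := Spec (CommRingCat.of K[X])

/-- The morphism `Spec K[t] ⟶ Spec A[t]`. -/
abbrev jD : D K ⟶ S A := Spec.map (CommRingCat.ofHom (mapRingHom (algebraMap A K)))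

/-- `K` is the localization of `A` away from some element. -/
class Chart : Prop where
  out : ∃ ϖ : A, IsLocalization.Away ϖ K

attribute [local instance] Polynomial.algebra in
instance isOpenImmersion_jD [h : Chart A K] : IsOpenImmersion (jD A K) := by
  obtain ⟨ϖ, hϖ⟩ := h.out
  have h1 : IsLocalization ((Submonoid.powers ϖ).map C) K[X] := Polynomial.isLocalization _ _
  have h2 : IsLocalization.Away (C ϖ : A[X]) K[X] := by
    rw [IsLocalization.Away, ← Submonoid.map_powers]
    exact h1
  exact IsOpenImmersion.of_isLocalization (S := K[X]) (C ϖ : A[X])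

/-- The wide span. -/
def F : WidePushoutShape ℕ ⥤ Scheme.{u} :=
  WidePushoutShape.wideSpan (D K) (fun _ => S A) (fun _ => jD A K)

variable [Chart A K]

instance isOpenImmersion_F {a b : WidePushoutShape ℕ} (f : a ⟶ b) : IsOpenImmersion ((F A K).map f) := by
  cases f with
  | id =>
    change IsOpenImmersion ((F A K).map (𝟙 _))
    rw [(F A K).map_id]
    infer_instance
  | init j =>
    change IsOpenImmersion (jD A K)
    infer_instance

/-- The glued scheme. -/
def Y : Scheme.{u} := colimit (F A K)

/-- The `i`-th chart. -/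
def inc (i : ℕ) : S A ⟶ Y A K := colimit.ι (F A K) (some i)

/-- The common open part. -/
def incD : D K ⟶ Y A K := colimit.ι (F A K) none

instance isOpenImmersion_inc (i : ℕ) : IsOpenImmersion (inc A K i) :=
  inferInstanceAs (IsOpenImmersion (colimit.ι (F A K) (some i)))

instance isOpenImmersion_incD : IsOpenImmersion (incD A K) :=
  inferInstanceAs (IsOpenImmersion (colimit.ι (F A K) none))

@[reassoc]
theorem jD_inc (i : ℕ) : jD A K ≫ inc A K i = incD A K :=
  colimit.w (F A K) (WidePushoutShape.Hom.init i)

theorem exists_inc (y : Y A K) : ∃ (i : ℕ) (q : S A), inc A K i q = y := by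
  obtain ⟨o, x, hx⟩ := Scheme.IsLocallyDirected.ι_jointly_surjective (F A K) y
  cases o with
  | none =>
    exact ⟨0, jD A K x, (congr($(jD_inc A K 0) x) : inc A K 0 (jD A K x) = incD A K x).trans hx⟩
  | some i => exact ⟨i, x, hx⟩

/-- Two different charts meet in `D(ϖ)`. -/
theorem exists_incD {i j : ℕ} (hij : i ≠ j) {q q' : S A} (h : inc A K i q = inc A K j q') :
    ∃ x : D K, incD A K x = inc A K i q := by
  obtain ⟨k, fi, fj, x, hx, -⟩ := (Scheme.IsLocallyDirected.ι_eq_ι_iff (F A K) (i := some i) (j := some j)
    (xi := q) (xj := q')).1 h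
  cases k with
  | none =>
    refine ⟨x, ?_⟩
    rw [← hx]
    have := congr($(colimit.w (F A K) fi) x)
    exact this.symm
  | some k =>
    exfalso
    cases fi with
    | id =>
      cases fj with
      | id => exact hij rfl

/-- The common retraction. -/
def toS : Y A K ⟶ S A := colimit.desc (F A K)
  { pt := S A
    ι := { app := fun o => match o with
            | none => jD A K
            | some _ => 𝟙 _
           naturality := fun a b f => by
            cases f with
            | id =>
              change (F A K).map (𝟙 _) ≫ _ = _ ≫ 𝟙 _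
              rw [(F A K).map_id]
              exact (Category.id_comp _).trans (Category.comp_id _).symm
            | init j =>
              change jD A K ≫ 𝟙 _ = jD A K ≫ 𝟙 _
              rfl } }

@[reassoc]
theorem inc_toS (i : ℕ) : inc A K i ≫ toS A K = 𝟙 _ := colimit.ι_desc _ _

@[reassoc]
theorem incD_toS : incD A K ≫ toS A K = jD A K := colimit.ι_desc _ _

/-- The opens of the charts. -/
def VY (i : ℕ) : (Y A K).Opens := (inc A K i).opensRange

/-- The common open. -/
def UY : (Y A K).Opens := (incD A K).opensRange

theorem isAffineOpen_VY (i : ℕ) : IsAffineOpen (VY A K i) := isAffineOpen_opensRange _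

theorem isAffineOpen_UY : IsAffineOpen (UY A K) := isAffineOpen_opensRange _

theorem UY_le (i : ℕ) : UY A K ≤ VY A K i := by
  rintro _ ⟨x, rfl⟩
  exact ⟨jD A K x, congr($(jD_inc A K i) x)⟩

theorem VY_inf_le {i j : ℕ} (hij : i ≠ j) : VY A K i ⊓ VY A K j ≤ UY A K := by
  rintro _ ⟨⟨q, rfl⟩, ⟨q', hq'⟩⟩
  exact exists_incD A K hij hq'.symm

theorem exists_mem_VY (y : Y A K) : ∃ i, y ∈ VY A K i := by
  obtain ⟨i, q, hq⟩ := exists_inc A K y
  exact ⟨i, q, hq⟩

instance isLocallyNoetherian_Y [IsNoetherianRing A] : IsLocallyNoetherian (Y A K) := by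
  obtain ⟨ϖ, hϖ⟩ := Chart.out (A := A) (K := K)
  have : IsNoetherianRing K := IsLocalization.isNoetherianRing (Submonoid.powers ϖ) _ inferInstance
  refine (isLocallyNoetherian_iff_openCover (Scheme.IsLocallyDirected.openCover (F A K))).2 fun o => ?_
  cases o with
  | none =>
    change IsLocallyNoetherian (D K)
    infer_instance
  | some i =>
    change IsLocallyNoetherian (S A)
    infer_instance

end Groth.Agent.Refuted.K471.Glue
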