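import Groth.Agent.Refuted.K471.Glue

/-!
# Sections over the charts of `Y A K` and the ideal sheaf generated by `t`

`eV i : Γ(Y, VY i) ≃+* A[X]`, `eU : Γ(Y, UY) ≃+* K[X]`, compatible with restriction (`eU_res`); `II` the ideal sheaf
generated by the global section `t` (`ideal_VY`, `ideal_UY`).
-/

set_option autoImplicit false

universe u

open CategoryTheory CategoryTheory.Limits AlgebraicGeometry TopologicalSpace Opposite Polynomial

noncomputable section

namespace Groth.Agent.Refuted.K471.Rings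

open Groth.Agent.Refuted.K471.Glue

theorem isIso_appLE {X Z : Scheme.{u}} (f : X ⟶ Z) [IsOpenImmersion f] (V : Z.Opens) (hV : V = f.opensRange)
    (e : ⊤ ≤ f ⁻¹ᵁ V) : IsIso (f.appLE V ⊤ e) := by
  have h1 := f.isIso_app V hV.le
  have h2 : IsIso (homOfLE e) := ⟨homOfLE le_top, rfl, rfl⟩
  rw [Scheme.Hom.appLE]
  infer_instance

theorem appTop_eq {X Z : Scheme.{u}} (f : X ⟶ Z) : f.appTop = f.appLE ⊤ ⊤ le_top := f.app_eq_appLE

/-- The ideal sheaf generated by a global section. -/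
def secIdeal {X : Scheme.{u}} (t : Γ(X, ⊤)) : X.IdealSheafData where
  ideal U := Ideal.span {(X.presheaf.map (homOfLE (le_top : (U : X.Opens) ≤ ⊤)).op).hom t}
  map_ideal_basicOpen U f := by
    rw [Ideal.map_span, Set.image_singleton]
    congr 2
    exact (congr($(X.presheaf.map_comp (homOfLE (le_top : (U : X.Opens) ≤ ⊤)).op
      (homOfLE (X.basicOpen_le f)).op).hom t)).symm

theorem secIdeal_ideal {X : Scheme.{u}} (t : Γ(X, ⊤)) (U : X.affineOpens) :
    (secIdeal t).ideal U = Ideal.span {(X.presheaf.map (homOfLE (le_top : (U : X.Opens) ≤ ⊤)).op).hom t} := rfl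

theorem mem_support_secIdeal {X : Scheme.{u}} (t : Γ(X, ⊤)) (x : X) :
    x ∈ (secIdeal t).support ↔ x ∉ X.basicOpen t := by
  obtain ⟨_, ⟨U, hU, rfl⟩, hxU, -⟩ := X.isBasis_affineOpens.exists_subset_of_mem_open
    (show x ∈ ((⊤ : X.Opens) : Set X) from trivial) (⊤ : X.Opens).2
  rw [Scheme.IdealSheafData.mem_support_iff_of_mem (U := ⟨U, hU⟩) hxU, secIdeal_ideal, Scheme.zeroLocus_span,
    Scheme.zeroLocus_singleton]
  rw [Set.mem_compl_iff, not_iff_not]
  have h1 := X.basicOpen_res t (homOfLE (le_top : U ≤ ⊤)).op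
  constructor
  · intro h
    have : x ∈ U ⊓ X.basicOpen t := h1 ▸ h
    exact this.2
  · intro h
    have : x ∈ U ⊓ X.basicOpen t := ⟨hxU, h⟩
    exact h1.symm ▸ this

variable (A K : Type u) [CommRing A] [CommRing K] [Algebra A K] [Chart A K]

theorem top_le_V (i : ℕ) : ⊤ ≤ inc A K i ⁻¹ᵁ VY A K i := fun x _ => ⟨x, rfl⟩

theorem top_le_U : ⊤ ≤ incD A K ⁻¹ᵁ UY A K := fun x _ => ⟨x, rfl⟩

instance isIso_V (i : ℕ) : IsIso ((inc A K i).appLE (VY A K i) ⊤ (top_le_V A K i)) := isIso_appLE _ _ rfl _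

instance isIso_U : IsIso ((incD A K).appLE (UY A K) ⊤ (top_le_U A K)) := isIso_appLE _ _ rfl _

/-- Sections over the `i`-th chart. -/
def eV (i : ℕ) : Γ(Y A K, VY A K i) ≃+* A[X] :=
  (asIso ((inc A K i).appLE (VY A K i) ⊤ (top_le_V A K i)) ≪≫
    Scheme.ΓSpecIso (CommRingCat.of A[X])).commRingCatIsoToRingEquiv

/-- Sections over the common part. -/
def eU : Γ(Y A K, UY A K) ≃+* K[X] :=
  (asIso ((incD A K).appLE (UY A K) ⊤ (top_le_U A K)) ≪≫
    Scheme.ΓSpecIso (CommRingCat.of K[X])).commRingCatIsoToRingEquiv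

theorem eV_apply (i : ℕ) (s : Γ(Y A K, VY A K i)) : eV A K i s =
    (Scheme.ΓSpecIso (CommRingCat.of A[X])).hom.hom
      (((inc A K i).appLE (VY A K i) ⊤ (top_le_V A K i)).hom s) := rfl

theorem eU_apply (s : Γ(Y A K, UY A K)) : eU A K s =
    (Scheme.ΓSpecIso (CommRingCat.of K[X])).hom.hom
      (((incD A K).appLE (UY A K) ⊤ (top_le_U A K)).hom s) := rfl

theorem eU_res (i : ℕ) (s : Γ(Y A K, VY A K i)) :
    eU A K (((Y A K).presheaf.map (homOfLE (UY_le A K i)).op).hom s) = (eV A K i s).map (algebraMap A K) := by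
  rw [eU_apply, eV_apply]
  have h1 : (Y A K).presheaf.map (homOfLE (UY_le A K i)).op ≫ (incD A K).appLE (UY A K) ⊤ (top_le_U A K) =
      (inc A K i).appLE (VY A K i) ⊤ (top_le_V A K i) ≫ (jD A K).appTop := by
    rw [Scheme.Hom.map_appLE, appTop_eq]
    have h2 := Scheme.Hom.appLE_comp_appLE (jD A K) (inc A K i) (VY A K i) ⊤ ⊤ (top_le_V A K i) le_top
    rw [h2]
    simp only [jD_inc]
  have h3 : (Y A K).presheaf.map (homOfLE (UY_le A K i)).op ≫ (incD A K).appLE (UY A K) ⊤ (top_le_U A K) ≫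
      (Scheme.ΓSpecIso (CommRingCat.of K[X])).hom =
      (inc A K i).appLE (VY A K i) ⊤ (top_le_V A K i) ≫ (Scheme.ΓSpecIso (CommRingCat.of A[X])).hom ≫
        CommRingCat.ofHom (mapRingHom (algebraMap A K)) := by
    rw [← Category.assoc, h1, Category.assoc, Scheme.ΓSpecIso_naturality]
  exact congr(($h3).hom s)

/-- The global section `t`. -/
def tY : Γ(Y A K, ⊤) := (toS A K).appTop.hom ((Scheme.ΓSpecIso (CommRingCat.of A[X])).inv.hom X)

/-- The ideal sheaf generated by `t`. -/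
def II : (Y A K).IdealSheafData := secIdeal (tY A K)

theorem eV_t (i : ℕ) :
    eV A K i (((Y A K).presheaf.map (homOfLE (le_top : VY A K i ≤ ⊤)).op).hom (tY A K)) = X := by
  rw [eV_apply]
  have h1 : (Scheme.ΓSpecIso (CommRingCat.of A[X])).inv ≫ (toS A K).appTop ≫
      (Y A K).presheaf.map (homOfLE (le_top : VY A K i ≤ ⊤)).op ≫ (inc A K i).appLE (VY A K i) ⊤ (top_le_V A K i) ≫
        (Scheme.ΓSpecIso (CommRingCat.of A[X])).hom = 𝟙 _ := by
    rw [Scheme.Hom.map_appLE_assoc, appTop_eq, Scheme.Hom.appLE_comp_appLE_assoc]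
    simp only [inc_toS]
    rw [← appTop_eq, Scheme.Hom.id_appTop, Category.id_comp, Iso.inv_hom_id]
  exact congr(($h1).hom X)

theorem eU_t :
    eU A K (((Y A K).presheaf.map (homOfLE (le_top : UY A K ≤ ⊤)).op).hom (tY A K)) = X := by
  have h1 := eU_res A K 0 (((Y A K).presheaf.map (homOfLE (le_top : VY A K 0 ≤ ⊤)).op).hom (tY A K))
  rw [eV_t, map_X] at h1
  refine Eq.trans ?_ h1
  congr 1
  exact congr($((Y A K).presheaf.map_comp (homOfLE (le_top : VY A K 0 ≤ ⊤)).op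
    (homOfLE (UY_le A K 0)).op).hom (tY A K))

theorem span_eq_comap {R R' : Type u} [CommRing R] [CommRing R'] (e : R ≃+* R') (r : R) (r' : R') (h : e r = r') :
    Ideal.span {r} = (Ideal.span {r'}).comap e := by
  ext s
  rw [Ideal.mem_comap, Ideal.mem_span_singleton, Ideal.mem_span_singleton, ← h]
  exact (map_dvd_iff e).symm

theorem ideal_VY (i : ℕ) : (II A K).ideal ⟨VY A K i, isAffineOpen_VY A K i⟩ =
    (Ideal.span {(X : A[X])}).comap (eV A K i) :=
  span_eq_comap _ _ _ (eV_t A K i)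

theorem ideal_UY : (II A K).ideal ⟨UY A K, isAffineOpen_UY A K⟩ = (Ideal.span {(X : K[X])}).comap (eU A K) :=
  span_eq_comap _ _ _ (eU_t A K)

theorem mem_support_iff (i : ℕ) (q : S A) : inc A K i q ∈ (II A K).support ↔ (X : A[X]) ∈ q.asIdeal := by
  have h1 : (Y A K).basicOpen (tY A K) = toS A K ⁻¹ᵁ (PrimeSpectrum.basicOpen (X : A[X])) := by
    rw [tY, ← basicOpen_eq_of_affine (R := CommRingCat.of A[X])]
    exact (Scheme.preimage_basicOpen (toS A K) _).symm
  rw [II, mem_support_secIdeal, h1]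
  have h2 : toS A K (inc A K i q) = q := congr($(inc_toS A K i) q)
  change ¬ toS A K (inc A K i q) ∈ PrimeSpectrum.basicOpen (X : A[X]) ↔ _
  rw [h2]
  exact not_not

end Groth.Agent.Refuted.K471.Rings
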