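import Groth.Agent.Refuted.K471.Rings
import Groth.Prelude.Def_FSch2

/-!
# The formal completion of `Y A K` along `t = 0`: points and minimal opens

`A` a discrete valuation ring, `K` its fraction field.  The common space of `FSch.completionAlong Y II` is `{η, p 0, p 1, …}`
with minimal opens `V i = {η, p i}` and `U = {η}`.
-/

set_option autoImplicit false

universe u

open CategoryTheory CategoryTheory.Limits AlgebraicGeometry TopologicalSpace Opposite Polynomial

noncomputable section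

namespace Groth.Agent.Refuted.K471.TwoPt

open Groth.Agent.Refuted.K471.Glue Groth.Agent.Refuted.K471.Rings

variable (A K : Type u) [CommRing A] [IsDomain A] [IsDiscreteValuationRing A] [Field K] [Algebra A K]
  [IsFractionRing A K]

theorem away_of_irreducible (ϖ : A) (hϖ : Irreducible ϖ) :
    IsLocalization.Away ϖ K := by
  have hinj := IsFractionRing.injective A K
  have hne : algebraMap A K ϖ ≠ 0 := fun h => hϖ.ne_zero (hinj (h.trans (map_zero _).symm))
  refine ⟨?_, ?_, ?_⟩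
  · rintro ⟨_, n, rfl⟩
    rw [map_pow]
    exact (IsUnit.mk0 _ hne).pow n
  · intro z
    obtain ⟨a, b, hb, rfl⟩ := IsFractionRing.div_surjective (A := A) z
    have hb0 : b ≠ 0 := nonZeroDivisors.ne_zero hb
    obtain ⟨n, u, rfl⟩ := IsDiscreteValuationRing.eq_unit_mul_pow_irreducible hb0 hϖ
    have hu : algebraMap A K (u : A) ≠ 0 := fun h => u.ne_zero (hinj (h.trans (map_zero _).symm))
    refine ⟨(a * ((u⁻¹ : Aˣ) : A), ⟨ϖ ^ n, n, rfl⟩), ?_⟩
    have huu : algebraMap A K ((u⁻¹ : Aˣ) : A) * algebraMap A K (u : A) = 1 := by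
      rw [← map_mul, Units.inv_mul, map_one]
    have hp : algebraMap A K (ϖ ^ n) ≠ 0 := by
      rw [map_pow]
      exact pow_ne_zero _ hne
    change algebraMap A K a / algebraMap A K (u * ϖ ^ n) * algebraMap A K (ϖ ^ n) =
      algebraMap A K (a * ((u⁻¹ : Aˣ) : A))
    rw [map_mul, map_mul]
    field_simp
    linear_combination (algebraMap A K a) * huu.symm
  · intro a b h
    exact ⟨1, by rw [hinj h]⟩

instance chart : Chart A K := by
  obtain ⟨ϖ, hϖ⟩ := IsDiscreteValuationRing.exists_irreducible A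
  exact ⟨ϖ, away_of_irreducible A K ϖ hϖ⟩

/-- The closed point of a chart. -/
def qm : S A := (⟨(IsLocalRing.maximalIdeal A).comap (constantCoeff (R := A)), inferInstance⟩ : PrimeSpectrum A[X])

/-- The generic point of `t = 0` on a chart. -/
def qη : S A := (⟨(⊥ : Ideal A).comap (constantCoeff (R := A)), inferInstance⟩ : PrimeSpectrum A[X])

variable {A}

omit [IsDomain A] [IsDiscreteValuationRing A] in
theorem mem_iff_constantCoeff {I : Ideal A[X]} (hX : X ∈ I) (f : A[X]) : f ∈ I ↔ C (f.coeff 0) ∈ I := by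
  have h1 : f = X * f.divX + C (f.coeff 0) := (X_mul_divX_add f).symm
  constructor
  · intro h
    have : C (f.coeff 0) = f - X * f.divX := eq_sub_of_add_eq' h1.symm
    rw [this]
    exact I.sub_mem h (I.mul_mem_right _ hX)
  · intro h
    rw [h1]
    exact I.add_mem (I.mul_mem_right _ hX) h

theorem le_qm (q : PrimeSpectrum A[X]) (hX : X ∈ q.asIdeal) : q ≤ qm A := by
  intro f hf
  have h1 : f.coeff 0 ∈ q.asIdeal.comap C := (mem_iff_constantCoeff hX f).1 hf
  exact IsLocalRing.le_maximalIdeal (Ideal.IsPrime.ne_top inferInstance) h1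

theorem eq_qη (q : PrimeSpectrum A[X]) (hX : X ∈ q.asIdeal) {ϖ : A} (hϖ : Irreducible ϖ) (h : C ϖ ∉ q.asIdeal) :
    q = qη A := by
  apply PrimeSpectrum.ext
  ext f
  rw [mem_iff_constantCoeff hX]
  change _ ↔ constantCoeff f ∈ (⊥ : Ideal A)
  rw [Ideal.mem_bot, constantCoeff_apply]
  constructor
  · intro hf
    by_contra h0
    obtain ⟨n, u, hu⟩ := IsDiscreteValuationRing.eq_unit_mul_pow_irreducible h0 hϖ
    rw [hu, map_mul, map_pow] at hf
    have h2 : IsUnit (C (u : A)) := u.isUnit.map C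
    have h3 := (Ideal.IsPrime.mem_or_mem q.isPrime hf).resolve_left
      fun h4 => q.isPrime.ne_top (Ideal.eq_top_of_isUnit_mem _ h4 h2)
    exact h (q.isPrime.mem_of_pow_mem _ h3)
  · intro hf
    rw [hf, map_zero]
    exact q.asIdeal.zero_mem

theorem X_mem_qm : (X : A[X]) ∈ (qm A).asIdeal := by
  change constantCoeff X ∈ IsLocalRing.maximalIdeal A
  rw [constantCoeff_apply, coeff_X_zero]
  exact Ideal.zero_mem _

theorem X_mem_qη : (X : A[X]) ∈ (qη A).asIdeal := by
  change constantCoeff X ∈ (⊥ : Ideal A)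
  rw [constantCoeff_apply, coeff_X_zero]
  exact Ideal.zero_mem _

omit [IsDomain A] [IsDiscreteValuationRing A] [IsFractionRing A K] in
attribute [local instance] Polynomial.algebra in
/-- The range of the common part in a chart. -/
theorem mem_range_jD_iff (ϖ : A) [h : IsLocalization.Away ϖ K] (q : S A) :
    q ∈ Set.range (jD A K) ↔ C ϖ ∉ q.asIdeal := by
  have h1 : IsLocalization ((Submonoid.powers ϖ).map C) K[X] := Polynomial.isLocalization _ _
  have h2 : IsLocalization.Away (C ϖ : A[X]) K[X] := by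
    rw [IsLocalization.Away, ← Submonoid.map_powers]
    exact h1
  have h3 := PrimeSpectrum.localization_away_comap_range K[X] (C ϖ : A[X])
  have h4 : Set.range (jD A K) = (PrimeSpectrum.basicOpen (C ϖ : A[X]) : Set (PrimeSpectrum A[X])) := h3
  rw [h4]
  rfl

variable (A)

theorem mem_UY_iff (ϖ : A) (hϖ : Irreducible ϖ) (i : ℕ) (q : S A) : inc A K i q ∈ UY A K ↔ C ϖ ∉ q.asIdeal := by
  have h1 := away_of_irreducible A K ϖ hϖ
  rw [← mem_range_jD_iff K ϖ]
  constructor
  · rintro ⟨x, hx⟩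
    refine ⟨x, (inc A K i).isOpenEmbedding.injective ?_⟩
    exact (congr($(jD_inc A K i) x) : inc A K i (jD A K x) = incD A K x).trans hx
  · rintro ⟨x, rfl⟩
    exact ⟨x, (congr($(jD_inc A K i) x) : inc A K i (jD A K x) = incD A K x).symm⟩

/-- The formal scheme. -/
abbrev 𝔛 : FSch.Sys.{u} := FSch.completionAlong (Y A K) (II A K)

/-- The map to `Y`. -/
abbrev j₀ : (𝔛 A K).X 0 ⟶ Y A K := FSch.completionToX (Y A K) (II A K) 0

instance : IsClosedImmersion (j₀ A K) :=
  inferInstanceAs (IsClosedImmersion ((II A K) ^ (0 + 1)).subschemeι)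

theorem mem_range_iff (i : ℕ) (q : S A) : inc A K i q ∈ Set.range (j₀ A K) ↔ (X : A[X]) ∈ q.asIdeal := by
  have h1 : Set.range (j₀ A K) = ((II A K) ^ (0 + 1)).support := Scheme.IdealSheafData.range_subschemeι _
  rw [h1, zero_add, pow_one]
  exact mem_support_iff A K i q

/-- The minimal open of `p i`. -/
def V (i : ℕ) : ((𝔛 A K).X 0).Opens := j₀ A K ⁻¹ᵁ VY A K i

/-- The minimal open of `η`. -/
def U : ((𝔛 A K).X 0).Opens := j₀ A K ⁻¹ᵁ UY A K

theorem U_le (i : ℕ) : U A K ≤ V A K i := fun _ hx => UY_le A K i hx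

theorem exists_p (i : ℕ) : ∃ z, j₀ A K z = inc A K i (qm A) := (mem_range_iff A K i (qm A)).2 X_mem_qm

/-- The closed points. -/
def p (i : ℕ) : (𝔛 A K).X 0 := (exists_p A K i).choose

theorem j₀_p (i : ℕ) : j₀ A K (p A K i) = inc A K i (qm A) := (exists_p A K i).choose_spec

theorem exists_η : ∃ z, j₀ A K z = inc A K 0 (qη A) := (mem_range_iff A K 0 (qη A)).2 X_mem_qη

/-- The generic point. -/
def η : (𝔛 A K).X 0 := (exists_η A K).choose

theorem j₀_η : j₀ A K (η A K) = inc A K 0 (qη A) := (exists_η A K).choose_spec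

theorem p_mem (i : ℕ) : p A K i ∈ V A K i := ⟨qm A, (j₀_p A K i).symm⟩

theorem η_mem : η A K ∈ U A K := by
  obtain ⟨ϖ, hϖ⟩ := IsDiscreteValuationRing.exists_irreducible A
  change j₀ A K (η A K) ∈ UY A K
  rw [j₀_η, mem_UY_iff A K ϖ hϖ]
  change ¬ constantCoeff (C ϖ) ∈ (⊥ : Ideal A)
  rw [Ideal.mem_bot, constantCoeff_apply, coeff_C_zero]
  exact hϖ.ne_zero

/-- Every open containing `p i` contains `V i`. -/
theorem hV (i : ℕ) (W : ((𝔛 A K).X 0).Opens) (hW : p A K i ∈ W) : V A K i ≤ W := by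
  rintro z ⟨q, hq⟩
  have hX : (X : A[X]) ∈ q.asIdeal := (mem_range_iff A K i q).1 ⟨z, hq.symm⟩
  have h1 : q ⤳ qm A := (PrimeSpectrum.le_iff_specializes _ _).1 (le_qm q hX)
  have h2 : inc A K i q ⤳ inc A K i (qm A) := h1.map (inc A K i).continuous
  have h3 : j₀ A K z ⤳ j₀ A K (p A K i) := by
    rw [j₀_p]
    exact hq ▸ h2
  have h4 : z ⤳ p A K i := (j₀ A K).isClosedEmbedding.isInducing.specializes_iff.1 h3
  exact h4.mem_open W.2 hW

/-- Every open containing `η` contains `U`. -/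
theorem hU (W : ((𝔛 A K).X 0).Opens) (hW : η A K ∈ W) : U A K ≤ W := by
  obtain ⟨ϖ, hϖ⟩ := IsDiscreteValuationRing.exists_irreducible A
  intro z hz
  obtain ⟨q, hq⟩ : j₀ A K z ∈ VY A K 0 := UY_le A K 0 hz
  have hX : (X : A[X]) ∈ q.asIdeal := (mem_range_iff A K 0 q).1 ⟨z, hq.symm⟩
  have h1 : C ϖ ∉ q.asIdeal := by
    rw [← mem_UY_iff A K ϖ hϖ 0]
    exact hq ▸ hz
  have h2 : z = η A K := (j₀ A K).isClosedEmbedding.injective (by
    rw [j₀_η, ← eq_qη q hX hϖ h1]
    exact hq.symm)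
  rw [h2]
  exact hW

theorem V_inf_le {i j : ℕ} (hij : i ≠ j) : V A K i ⊓ V A K j ≤ U A K := fun _ hx => VY_inf_le A K hij hx

theorem iSup_V : ⨆ i, V A K i = ⊤ := by
  refine top_le_iff.1 fun z _ => ?_
  obtain ⟨i, hi⟩ := exists_mem_VY A K (j₀ A K z)
  exact Opens.mem_iSup.2 ⟨i, hi⟩

end Groth.Agent.Refuted.K471.TwoPt
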